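import Cfsg.Agent.Lib.Cert.Suz.T7.R0

set_option autoImplicit false
set_option maxRecDepth 100000

namespace Cfsg.Agent.Ct.Suz.L7

open Cfsg.Agent.PC

theorem rows : ∀ i < 1782, row i = 0 := by
  have h := zero_lt_zero row
  have h := zero_lt_add (a := (nat_lit 0)) (n := (nat_lit 1782)) (b := (nat_lit 1782)) h r0 rfl
  exact h
theorem auxs : ∀ i < 17264, aux i = 0 := by
  have h := zero_lt_zero aux
  have h := zero_lt_add (a := (nat_lit 0)) (n := (nat_lit 4000)) (b := (nat_lit 4000)) h a0 rfl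
  have h := zero_lt_add (a := (nat_lit 4000)) (n := (nat_lit 4000)) (b := (nat_lit 8000)) h a4000 rfl
  have h := zero_lt_add (a := (nat_lit 8000)) (n := (nat_lit 4000)) (b := (nat_lit 12000)) h a8000 rfl
  have h := zero_lt_add (a := (nat_lit 12000)) (n := (nat_lit 4000)) (b := (nat_lit 16000)) h a12000 rfl
  have h := zero_lt_add (a := (nat_lit 16000)) (n := (nat_lit 1264)) (b := (nat_lit 17264)) h a16000 rfl
  exact h
theorem closes.{u} : ClosesT.{u} (fun j => j) rels 7 6 1782 T :=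
  hc_closes (N1 := (nat_lit 1781)) rfl T_eq (by decide +kernel) rows auxs
theorem T_inv : ∀ c < 1782, ∀ j < 7, T j c < 1782 ∧ T j (T j c) = c := 
  hc_inv (inv := (fun j => j)) (N1 := (nat_lit 1781)) rfl T_eq rows

end Cfsg.Agent.Ct.Suz.L7
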